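import Groth.Agent.RelFP.BaseChange
import Groth.Agent.QCoh.FT
import Groth.Agent.QCoh.Support
import Groth.Agent.FlatBC5.Basic
import Groth.Prelude.Def_ModSt

/-!
# The category of flat finitely presented modules is fibred in groupoids
-/

universe u

set_option backward.isDefEq.respectTransparency false
set_option backward.isDefEq.respectTransparency.types false

open CategoryTheory CategoryTheory.Limits AlgebraicGeometry TopologicalSpace Opposite
open scoped TensorProduct

namespace Groth.Agent.ModStLib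

theorem isFP_pullback {Y Z : Scheme.{u}} (h : Y ⟶ Z) {M : Z.Modules} (hM : CohB1.IsFP M) :
    CohB1.IsFP ((Scheme.Modules.pullback h).obj M) := by
  have hq : Coh.IsQCoh M := QCoh.isQCoh_of_isFP hM
  have hc : ∀ y : Y, ∃ (U : Y.affineOpens) (W : Z.affineOpens), y ∈ U.1 ∧ U.1 ≤ h ⁻¹ᵁ W.1 := by
    intro y
    obtain ⟨_, ⟨W, hW, rfl⟩, hyW, -⟩ :=
      Z.isBasis_affineOpens.exists_subset_of_mem_open (Set.mem_univ (h y)) isOpen_univ
    obtain ⟨_, ⟨U, hU, rfl⟩, hyU, hUW⟩ :=
      Y.isBasis_affineOpens.exists_subset_of_mem_open (show y ∈ h ⁻¹ᵁ W from hyW) (h ⁻¹ᵁ W).2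
    exact ⟨⟨U, hU⟩, ⟨W, hW⟩, hyU, hUW⟩
  choose U W hyU hle using hc
  refine QCoh.isFP_of_finitePresentation (QCoh.isQCoh_pullback h hq) (fun y => (U y).1)
    (IsOpenCover.mk (eq_top_iff.mpr fun y _ => Opens.mem_iSup.mpr ⟨y, hyU y⟩)) (fun y => (U y).2)
    fun y => ?_
  letI := (h.appLE (W y).1 (U y).1 (hle y)).hom.toAlgebra
  letI := RelFP.pullModule h M (hle y)
  haveI : IsScalarTower Γ(Z, (W y).1) Γ(Y, (U y).1) Γ((Scheme.Modules.pullback h).obj M, (U y).1) :=
    IsScalarTower.of_algebraMap_smul fun _ _ => rfl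
  haveI : Module.FinitePresentation Γ(Z, (W y).1) Γ(M, (W y).1) :=
    QCoh.finitePresentation_of_isFP hM (W y).2
  have hbc : IsBaseChange Γ(Y, (U y).1) (RelFP.pullLin h M (hle y)) :=
    QCoh.isBaseChange_pullback (W y).2 h (U y).2 hq (hle y) (fun _ => rfl) _ fun _ => rfl
  exact Module.FinitePresentation.of_equiv hbc.equiv

variable {X S : Scheme.{u}} {f : X ⟶ S}

/-- The adjunction unit is a cartesian comparison map. -/
theorem isCart_unit {Y Z : Scheme.{u}} (h : Y ⟶ Z) (N : Z.Modules) :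
    ModSt.IsCart h ((Scheme.Modules.pullbackPushforwardAdjunction h).unit.app N) := by
  intro M'
  have e : (fun v : (Scheme.Modules.pullback h).obj N ⟶ M' =>
      (Scheme.Modules.pullbackPushforwardAdjunction h).unit.app N ≫
        (Scheme.Modules.pushforward h).map v) =
      (Scheme.Modules.pullbackPushforwardAdjunction h).homEquiv N M' :=
    funext fun v => ((Scheme.Modules.pullbackPushforwardAdjunction h).homEquiv_unit _ _ v).symm
  rw [e]
  exact Equiv.bijective _

/-- The base change of an object along a morphism of bases. -/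
noncomputable def bcObj (A : ModSt.Obj f) {V : Over S} (b : V ⟶ A.base) : ModSt.Obj f where
  base := V
  XT := pullback A.q b.left
  p := pullback.fst A.q b.left ≫ A.p
  q := pullback.snd A.q b.left
  isPullback := by
    have := (IsPullback.of_hasPullback A.q b.left).paste_horiz A.isPullback
    rwa [Over.w b] at this
  E := (Scheme.Modules.pullback (pullback.fst A.q b.left)).obj A.E

/-- The projection from the base change. -/
noncomputable def bcHom (A : ModSt.Obj f) {V : Over S} (b : V ⟶ A.base) : bcObj A b ⟶ A where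
  base := b
  top := pullback.fst A.q b.left
  w_p := rfl
  w_q := pullback.condition
  c := (Scheme.Modules.pullbackPushforwardAdjunction (pullback.fst A.q b.left)).unit.app A.E
  cart := isCart_unit _ _

theorem isCohObj_bcObj {A : ModSt.Obj f} (hA : ModSt.IsCohObj A) {V : Over S} (b : V ⟶ A.base) :
    ModSt.IsCohObj (bcObj A b) :=
  ⟨FlatBC5.isFlatOver_of_baseChange (IsPullback.of_hasPullback A.q b.left)
    (QCoh.isQCoh_of_isFP hA.2) hA.1, isFP_pullback _ hA.2⟩

theorem hom_ext_c {C B : ModSt.Obj f} {χ₁ χ₂ : C ⟶ B} (hb : χ₁.base = χ₂.base)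
    (e : χ₁.top = χ₂.top)
    (hc : χ₁.c ≫ (Scheme.Modules.pushforwardCongr e).hom.app C.E = χ₂.c) : χ₁ = χ₂ := by
  obtain ⟨b₁, t₁, wp₁, wq₁, c₁, hc₁⟩ := χ₁
  obtain ⟨b₂, t₂, wp₂, wq₂, c₂, hc₂⟩ := χ₂
  cases hb
  cases e
  have : c₁ = c₂ := by
    change c₁ ≫ _ = c₂ at hc
    rw [← hc]
    refine Scheme.Modules.hom_ext _ _ fun U => ?_
    ext x
    simp
  cases this
  rfl

/-- Every morphism factors a unique morphism over each factorisation of its base. -/
theorem existsUnique_lift {B A C : ModSt.Obj f} (φ : B ⟶ A) (g : C.base ⟶ B.base) (ψ : C ⟶ A)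
    (hg : ψ.base = g ≫ φ.base) : ∃! χ : C ⟶ B, χ.base = g ∧ χ ≫ φ = ψ := by
  have hp : C.p ≫ f = (C.q ≫ g.left) ≫ B.base.hom := by
    rw [Category.assoc, Over.w g]
    exact C.isPullback.w
  set t := B.isPullback.lift C.p (C.q ≫ g.left) hp with ht
  have ht1 : t ≫ B.p = C.p := B.isPullback.lift_fst _ _ _
  have ht2 : t ≫ B.q = C.q ≫ g.left := B.isPullback.lift_snd _ _ _
  have htop : t ≫ φ.top = ψ.top := by
    refine A.isPullback.hom_ext ?_ ?_
    · rw [Category.assoc, φ.w_p, ht1, ψ.w_p]
    · rw [Category.assoc, φ.w_q, reassoc_of% ht2, ψ.w_q, hg, Over.comp_left]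
  let e : Scheme.Modules.pushforward t ⋙ Scheme.Modules.pushforward φ.top ≅
      Scheme.Modules.pushforward ψ.top :=
    Scheme.Modules.pushforwardComp t φ.top ≪≫ Scheme.Modules.pushforwardCongr htop
  obtain ⟨c, hc⟩ := (φ.cart ((Scheme.Modules.pushforward t).obj C.E)).2 (ψ.c ≫ e.inv.app C.E)
  have hc' : φ.c ≫ (Scheme.Modules.pushforward φ.top).map c ≫ e.hom.app C.E = ψ.c := by
    rw [← Category.assoc, show φ.c ≫ (Scheme.Modules.pushforward φ.top).map c = _ from hc,
      Category.assoc, ← NatTrans.comp_app, e.inv_hom_id, NatTrans.id_app]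
    exact Category.comp_id _
  have hcart : ModSt.IsCart t c := by
    intro M'
    have hcomp : (fun v : C.E ⟶ M' => ψ.c ≫ (Scheme.Modules.pushforward ψ.top).map v) =
        (e.app M').homToEquiv ∘
          (fun w : B.E ⟶ (Scheme.Modules.pushforward t).obj M' =>
            φ.c ≫ (Scheme.Modules.pushforward φ.top).map w) ∘
          (fun v : C.E ⟶ M' => c ≫ (Scheme.Modules.pushforward t).map v) := by
      funext v
      simp only [Function.comp_apply, Iso.homToEquiv_apply, Iso.app_hom, Functor.map_comp]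
      rw [← hc']
      simp only [Category.assoc]
      congr 2
      exact (e.hom.naturality v).symm
    have h1 := ψ.cart M'
    rw [hcomp] at h1
    exact ((Function.Bijective.of_comp_iff' (φ.cart _) _).mp
      ((Function.Bijective.of_comp_iff' ((e.app M').homToEquiv).bijective _).mp h1))
  let χ : C ⟶ B := ⟨g, t, ht1, ht2, c, hcart⟩
  refine ⟨χ, ⟨rfl, ?_⟩, fun χ' h' => ?_⟩
  · refine hom_ext_c (show g ≫ φ.base = ψ.base from hg.symm) (show t ≫ φ.top = ψ.top from htop) ?_
    change (φ.c ≫ (Scheme.Modules.pushforward φ.top).map c ≫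
      (Scheme.Modules.pushforwardComp t φ.top).hom.app C.E) ≫ _ = _
    rw [← hc']
    simp only [Category.assoc]
    rfl
  · obtain ⟨hb, hχ⟩ := h'
    have e1 : χ'.top = t := by
      refine B.isPullback.hom_ext ?_ ?_
      · rw [ht1, χ'.w_p]
      · rw [ht2, χ'.w_q, hb]
    obtain ⟨b', t', wp', wq', c', hc''⟩ := χ'
    change b' = g at hb
    change t' = t at e1
    subst hb
    subst e1
    have : c' = c := by
      apply (φ.cart ((Scheme.Modules.pushforward t).obj C.E)).1
      change φ.c ≫ (Scheme.Modules.pushforward φ.top).map c' =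
        φ.c ≫ (Scheme.Modules.pushforward φ.top).map c
      rw [← cancel_mono (e.hom.app C.E), Category.assoc, Category.assoc, hc']
      subst hχ
      refine Scheme.Modules.hom_ext _ _ fun U => ?_
      ext x
      simp [e]
      rfl
    subst this
    rfl

theorem isStronglyCartesian {B A : ModSt.Obj f} (φ : B ⟶ A) :
    (ModSt.Obj.forget f).IsStronglyCartesian ((ModSt.Obj.forget f).map φ) φ where
  universal_property' {C} g ψ hψ := by
    have hg : ψ.base = g ≫ φ.base :=
      (IsHomLift.eq_of_isHomLift (ModSt.Obj.forget f) (g ≫ (ModSt.Obj.forget f).map φ) ψ).symm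
    obtain ⟨χ, ⟨h1, h2⟩, huniq⟩ := existsUnique_lift φ g ψ hg
    refine ⟨χ, ⟨?_, h2⟩, fun χ' hχ' => huniq χ' ⟨?_, hχ'.2⟩⟩
    · subst h1
      exact IsHomLift.map (p := ModSt.Obj.forget f) χ
    · haveI := hχ'.1
      exact (IsHomLift.eq_of_isHomLift (ModSt.Obj.forget f) g χ').symm

theorem isFibGrpd_coh : FibCat.IsFibGrpd (ModSt.Coh f).p where
  exists_lift {x V} b := by
    let y : (ModSt.Coh f).obj := ⟨bcObj x.obj b, isCohObj_bcObj x.property b⟩
    let φ : y ⟶ x := ObjectProperty.homMk (bcHom x.obj b)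
    exact ⟨y, φ, IsHomLift.map (p := (ModSt.Coh f).p) φ⟩
  isStronglyCartesian {y x} φ :=
    { universal_property' := fun {C} g ψ hψ => by
        have hg : ψ.hom.base = g ≫ φ.hom.base :=
          (IsHomLift.eq_of_isHomLift (ModSt.Coh f).p (g ≫ (ModSt.Coh f).p.map φ) ψ).symm
        obtain ⟨χ, ⟨h1, h2⟩, huniq⟩ := existsUnique_lift φ.hom g ψ.hom hg
        refine ⟨ObjectProperty.homMk χ, ⟨?_, ObjectProperty.hom_ext _ h2⟩,
          fun χ' h' => ObjectProperty.hom_ext _ (huniq χ'.hom ⟨?_, congrArg (fun m => m.hom) h'.2⟩)⟩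
        · subst h1
          exact IsHomLift.map (p := (ModSt.Coh f).p) (ObjectProperty.homMk χ)
        · haveI := h'.1
          exact (IsHomLift.eq_of_isHomLift (ModSt.Coh f).p g χ').symm }

end Groth.Agent.ModStLib
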